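import Mathlib
import Cfsg.Agent.Lib.Helper49.RUW.Defs

/-!
# RUW (S3174) package [CENK]

The subgroup `K = P₁ ∪ k P₁` of `W` of order `≥ 2^8` all of whose squares lie in `Z₂`.
-/

set_option autoImplicit false

namespace Cfsg.Agent.Lib.Helper15.RUW

open Cfsg.Agent.Lib.Helper49.RUW

universe u

/-- The identity `(ξ - 1)(γ - 1) a = (γ - 1)(ξ - 1) a` in a group where the relevant elements
commute. -/
theorem quot_identity {Q : Type*} [Group Q] (a b d C X : Q) (hb : b = X * a * X⁻¹)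
    (hd : d = C * a * C⁻¹) (hab : Commute a b) (had : Commute a d) (hbd : Commute b d)
    (hee : C * b * C⁻¹ = X * d * X⁻¹) :
    (a⁻¹ * d)⁻¹ * (X * (a⁻¹ * d) * X⁻¹) = (a⁻¹ * b)⁻¹ * (C * (a⁻¹ * b) * C⁻¹) := by
  have h1 : (a⁻¹ * d)⁻¹ * (X * (a⁻¹ * d) * X⁻¹) = d⁻¹ * a * b⁻¹ * (X * d * X⁻¹) := by
    rw [hb]; group
  have h2 : (a⁻¹ * b)⁻¹ * (C * (a⁻¹ * b) * C⁻¹) = b⁻¹ * a * d⁻¹ * (C * b * C⁻¹) := by
    rw [hd]; group
  rw [h1, h2, hee]
  congr 1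
  calc d⁻¹ * a * b⁻¹ = a * d⁻¹ * b⁻¹ := by rw [(had.inv_right).symm.eq]
    _ = a * (d⁻¹ * b⁻¹) := mul_assoc _ _ _
    _ = a * (b⁻¹ * d⁻¹) := by rw [(hbd.inv_inv).symm.eq]
    _ = a * b⁻¹ * d⁻¹ := (mul_assoc _ _ _).symm
    _ = b⁻¹ * a * d⁻¹ := by rw [(hab.inv_right).eq]

theorem pkgCenK (hSqG : PkgSqG.{u}) : PkgCenK.{u} := by
  intro T _ _ W X₁ A Z₂ Z₃ c x t₀ P₁ P₂ P₃ y hSer hCh hZ hxx hcx hP1 hP2 hyP3 hyZ hyc
  have hWn : W.Normal := hSer.Wn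
  have hZ3n : Z₃.Normal := hZ.Z3n
  -- basic memberships
  have hP1W : P₁ ≤ W := fun p hp => ((hCh.m1 p).mp hp).1
  have hP2P1 : P₂ ≤ P₁ := fun p hp => ((hCh.m2 p).mp hp).1
  have hP3P2 : P₃ ≤ P₂ := fun p hp => ((hCh.m3 p).mp hp).1
  have hyP2 : y ∈ P₂ := hP3P2 hyP3
  have hyW : y ∈ W := hP1W (hP2P1 hyP2)
  have hZ3P1 : Z₃ ≤ P₁ := fun z hz => (hCh.m1 z).mpr ⟨hZ.Z3W hz, hZ.Z23 (hZ.act c z hz)⟩
  have hcA : c ∈ A := hSer.X12 hSer.g1
  have hxA : x ∈ A := hSer.g2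
  -- c ∉ W, x ∉ W
  have hcW : c ∉ W := by
    intro hc
    have h1 : W ≤ P₁ := by
      intro p hp
      refine (hCh.m1 p).mpr ⟨hp, ?_⟩
      have h2 := hZ.commW p⁻¹ (inv_mem hp) c hc
      rw [inv_inv] at h2
      have e : cg c p = p⁻¹ * c * p * c⁻¹ := by unfold cg; group
      rw [e]
      exact h2
    have h3 := Subgroup.card_le_of_le h1
    rw [hZ.cardW, hP1] at h3
    norm_num at h3
  have hxW : x ∉ W := by
    intro hx
    have h1 : P₁ ≤ P₂ := by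
      intro p hp
      refine (hCh.m2 p).mpr ⟨hp, ?_⟩
      have h2 := hZ.commW p⁻¹ (inv_mem (hP1W hp)) x hx
      rw [inv_inv] at h2
      have e : cg x p = p⁻¹ * x * p * x⁻¹ := by unfold cg; group
      rw [e]
      exact h2
    have h3 := Subgroup.card_le_of_le h1
    rw [hP1, hP2] at h3
    norm_num at h3
  have hsqc : ∀ u ∈ W, cg c u * cg c u ∈ Z₂ :=
    fun u hu => hSqG W A Z₂ Z₃ hWn hZ c hcA hcW hSer.sq1 u hu
  have hsqx : ∀ u ∈ W, cg x u * cg x u ∈ Z₂ :=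
    fun u hu => hSqG W A Z₂ Z₃ hWn hZ x hxA hxW hxx u hu
  -- surjectivity clauses
  have hs1 := hCh.s1 (by rw [hZ.cardW, hZ.card3, hP1]; norm_num)
  have hs2 := hCh.s2 (by rw [hZ.card3, hP1, hP2]; norm_num)
  obtain ⟨p₁, hp₁, h₁⟩ := hs2 y hyP2
  obtain ⟨u₀, hu₀, h₂⟩ := hs1 p₁ hp₁
  obtain ⟨k, hkdef⟩ : ∃ k : T, k = cg x u₀ := ⟨_, rfl⟩
  have hcgW : ∀ (g p : T), p ∈ W → cg g p ∈ W := by
    intro g p hp
    unfold cg
    exact mul_mem (inv_mem hp) (hWn.conj_mem p hp g)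
  have hkW : k ∈ W := by rw [hkdef]; exact hcgW x u₀ hu₀
  -- claim (1): y⁻¹ * cg c k ∈ Z₃, via the quotient T ⧸ Z₃
  have hclaim : y⁻¹ * cg c k ∈ Z₃ := by
    obtain ⟨π, hπdef⟩ : ∃ π : T →* T ⧸ Z₃, π = QuotientGroup.mk' Z₃ := ⟨_, rfl⟩
    have hπ : ∀ a b : T, π a = π b ↔ a⁻¹ * b ∈ Z₃ := by
      intro a b
      rw [hπdef]
      exact QuotientGroup.eq
    have hπ1 : ∀ a : T, a ∈ Z₃ → π a = 1 := by
      intro a ha
      rw [hπdef]
      exact (QuotientGroup.eq_one_iff a).mpr ha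
    have hπcg : ∀ g p : T, π (cg g p) = (π p)⁻¹ * π (g * p * g⁻¹) := by
      intro g p
      unfold cg
      rw [map_mul, map_inv]
    have hcommπ : ∀ p ∈ W, ∀ q ∈ W, Commute (π p) (π q) := by
      intro p hp q hq
      have h1 := hπ1 _ (hZ.commW p hp q hq)
      rw [map_mul, map_mul, map_mul, map_inv, map_inv] at h1
      exact commutatorElement_eq_one_iff_mul_comm.mp (by rw [commutatorElement_def]; exact h1)
    have hbW : x * u₀ * x⁻¹ ∈ W := hWn.conj_mem u₀ hu₀ x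
    have hdW : c * u₀ * c⁻¹ ∈ W := hWn.conj_mem u₀ hu₀ c
    have hvW : x * (c * u₀ * c⁻¹) * x⁻¹ ∈ W := hWn.conj_mem _ hdW x
    have hee : π c * π (x * u₀ * x⁻¹) * (π c)⁻¹ = π x * π (c * u₀ * c⁻¹) * (π x)⁻¹ := by
      have e : c * (x * u₀ * x⁻¹) * c⁻¹ =
          (c * x * c⁻¹ * x⁻¹) * (x * (c * u₀ * c⁻¹) * x⁻¹) * (c * x * c⁻¹ * x⁻¹)⁻¹ := by group
      have h1 : π (c * (x * u₀ * x⁻¹) * c⁻¹) = π (x * (c * u₀ * c⁻¹) * x⁻¹) := by
        rw [e, map_mul, map_mul, map_inv, (hcommπ _ hcx _ hvW).eq, mul_inv_cancel_right]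
      rw [map_mul, map_mul, map_inv] at h1
      rw [h1, map_mul, map_mul, map_inv]
    have hkey := quot_identity (π u₀) (π (x * u₀ * x⁻¹)) (π (c * u₀ * c⁻¹)) (π c) (π x)
      (by rw [map_mul, map_mul, map_inv]) (by rw [map_mul, map_mul, map_inv])
      (hcommπ u₀ hu₀ _ hbW) (hcommπ u₀ hu₀ _ hdW) (hcommπ _ hbW _ hdW) hee
    have hp1 : π p₁ = (π u₀)⁻¹ * π (c * u₀ * c⁻¹) := by
      rw [← hπcg c u₀]
      exact ((hπ _ _).mpr h₂).symm
    have hy1 : π y = (π p₁)⁻¹ * (π x * π p₁ * (π x)⁻¹) := by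
      have h3 : π y = π (cg x p₁) := ((hπ _ _).mpr h₁).symm
      rw [h3, hπcg x p₁, map_mul, map_mul, map_inv]
    have hk1 : π k = (π u₀)⁻¹ * π (x * u₀ * x⁻¹) := by
      rw [hkdef, hπcg x u₀]
    have hck : π (cg c k) = (π k)⁻¹ * (π c * π k * (π c)⁻¹) := by
      rw [hπcg c k, map_mul, map_mul, map_inv]
    rw [← hπ, hy1, hck, hp1, hk1]
    exact hkey
  have hkP1 : k ∉ P₁ := by
    intro hk
    have h1 : cg c k ∈ Z₃ := ((hCh.m1 k).mp hk).2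
    have h2 : y⁻¹ ∈ Z₃ := by
      have h3 := mul_mem hclaim (inv_mem h1)
      rwa [mul_inv_cancel_right] at h3
    exact hyZ (by simpa using inv_mem h2)
  -- ζ := cg c k is central in W
  have hζ : ∀ w ∈ W, w * cg c k = cg c k * w := by
    intro w hw
    have e : cg c k = y * (y⁻¹ * cg c k) := by group
    rw [e]
    calc w * (y * (y⁻¹ * cg c k)) = (w * y) * (y⁻¹ * cg c k) := by group
      _ = (y * w) * (y⁻¹ * cg c k) := by rw [hyc w hw]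
      _ = y * (w * (y⁻¹ * cg c k)) := by group
      _ = y * ((y⁻¹ * cg c k) * w) := by rw [hZ.cenW w hw _ hclaim]
      _ = y * (y⁻¹ * cg c k) * w := by group
  -- P₁ is normalized by W, contains k * k
  have hα : ∀ p ∈ P₁, ∀ w ∈ W, w * p * w⁻¹ ∈ P₁ := by
    intro p hp w hw
    have e : w * p * w⁻¹ = (w * p * w⁻¹ * p⁻¹) * p := by group
    rw [e]
    exact mul_mem (hZ3P1 (hZ.commW w hw p (hP1W hp))) hp
  have hkinvW : k⁻¹ ∈ W := inv_mem hkW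
  have hβ : k * k ∈ P₁ := hZ3P1 (hZ.sqW k hkW)
  -- the subgroup K
  obtain ⟨K, hK⟩ : ∃ K : Subgroup T, ∀ w, w ∈ K ↔ (w ∈ P₁ ∨ k⁻¹ * w ∈ P₁) := by
    refine ⟨{ carrier := {w | w ∈ P₁ ∨ k⁻¹ * w ∈ P₁}
              mul_mem' := ?_
              one_mem' := Or.inl (one_mem _)
              inv_mem' := ?_ }, fun w => Iff.rfl⟩
    · intro a b ha hb
      rcases ha with ha | ha <;> rcases hb with hb | hb
      · exact Or.inl (mul_mem ha hb)
      · right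
        have e : k⁻¹ * (a * b) = (k⁻¹ * a * (k⁻¹)⁻¹) * (k⁻¹ * b) := by group
        rw [e]
        exact mul_mem (hα a ha k⁻¹ hkinvW) hb
      · right
        rw [← mul_assoc]
        exact mul_mem ha hb
      · left
        have e : a * b = (k * k) * (k⁻¹ * (k⁻¹ * a) * (k⁻¹)⁻¹) * (k⁻¹ * b) := by group
        rw [e]
        exact mul_mem (mul_mem hβ (hα _ ha k⁻¹ hkinvW)) hb
    · intro a ha
      rcases ha with ha | ha
      · exact Or.inl (inv_mem ha)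
      · right
        have e : k⁻¹ * a⁻¹ = (k⁻¹ * (k⁻¹ * a)⁻¹ * (k⁻¹)⁻¹) * (k * k)⁻¹ := by group
        rw [e]
        exact mul_mem (hα _ (inv_mem ha) k⁻¹ hkinvW) (inv_mem hβ)
  -- squares of elements of P₁
  have hdecomp : ∀ p ∈ P₁, ∃ u ∈ W, ∃ z ∈ Z₃, p = cg c u * z := by
    intro p hp
    obtain ⟨u, hu, hz⟩ := hs1 p hp
    exact ⟨u, hu, _, hz, by group⟩
  have hsqP1 : ∀ p ∈ P₁, p * p ∈ Z₂ := by
    intro p hp
    obtain ⟨u, hu, z, hz, rfl⟩ := hdecomp p hp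
    have hm := hcgW c u hu
    have e : cg c u * z * (cg c u * z) = cg c u * cg c u := by
      calc cg c u * z * (cg c u * z) = cg c u * (z * cg c u) * z := by group
        _ = cg c u * (cg c u * z) * z := by rw [← hZ.cenW _ hm z hz]
        _ = cg c u * cg c u * (z * z) := by group
        _ = cg c u * cg c u := by rw [hZ.exp z hz, mul_one]
    rw [e]
    exact hsqc u hu
  -- the commutator [k⁻¹, p] for p ∈ P₁
  have hcommk : ∀ p ∈ P₁, k⁻¹ * p * k * p⁻¹ ∈ Z₂ := by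
    intro p hp
    obtain ⟨u, hu, z, hz, rfl⟩ := hdecomp p hp
    have hu'W : c * u * c⁻¹ ∈ W := hWn.conj_mem u hu c
    obtain ⟨f, hf⟩ : ∃ f : T, f = k⁻¹ * u * k * u⁻¹ := ⟨_, rfl⟩
    obtain ⟨b, hb⟩ : ∃ b : T, b = k⁻¹ * (c * u * c⁻¹) * k * (c * u * c⁻¹)⁻¹ := ⟨_, rfl⟩
    have hfZ : f ∈ Z₃ := by
      have h := hZ.commW k⁻¹ hkinvW u hu
      rw [inv_inv] at h
      rw [hf]; exact h
    have hbZ : b ∈ Z₃ := by
      have h := hZ.commW k⁻¹ hkinvW _ hu'W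
      rw [inv_inv] at h
      rw [hb]; exact h
    -- (vi) remove z
    have e1 : k⁻¹ * (cg c u * z) * k * (cg c u * z)⁻¹ = k⁻¹ * cg c u * k * (cg c u)⁻¹ := by
      have hzk : z * k * z⁻¹ = k := by
        rw [← hZ.cenW k hkW z hz]; group
      calc k⁻¹ * (cg c u * z) * k * (cg c u * z)⁻¹
          = k⁻¹ * cg c u * (z * k * z⁻¹) * (cg c u)⁻¹ := by group
        _ = k⁻¹ * cg c u * k * (cg c u)⁻¹ := by rw [hzk]
    -- (i) free identity
    have e2 : k⁻¹ * cg c u * k * (cg c u)⁻¹ = (u⁻¹ * f⁻¹ * u) * (u⁻¹ * b * u) := by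
      rw [hf, hb]; unfold cg; group
    -- (ii), (iii)
    have e3 : u⁻¹ * f⁻¹ * u = f⁻¹ := by
      rw [mul_assoc, ← hZ.cenW u hu f⁻¹ (inv_mem hfZ)]; group
    have e4 : u⁻¹ * b * u = b := by
      rw [mul_assoc, ← hZ.cenW u hu b hbZ]; group
    -- (iv)
    have e5 : c * f * c⁻¹ = b := by
      have hvW : k⁻¹ * (c * u * c⁻¹) * k ∈ W := mul_mem (mul_mem hkinvW hu'W) hkW
      have h1 : c * f * c⁻¹ =
          (cg c k)⁻¹ * (k⁻¹ * (c * u * c⁻¹) * k) * cg c k * (c * u * c⁻¹)⁻¹ := by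
        rw [hf]; unfold cg; group
      have h2 : (cg c k)⁻¹ * (k⁻¹ * (c * u * c⁻¹) * k) * cg c k = k⁻¹ * (c * u * c⁻¹) * k := by
        rw [mul_assoc, hζ _ hvW]; group
      rw [h1, h2, hb]
    rw [e1, e2, e3, e4, ← e5]
    exact hZ.act c f hfZ
  refine ⟨K, ?_, ?_, ?_, ?_⟩
  · intro w hw
    rcases (hK w).mp hw with h | h
    · exact hP1W h
    · have e : w = k * (k⁻¹ * w) := by group
      rw [e]
      exact mul_mem hkW (hP1W h)
  · intro z hz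
    exact (hK z).mpr (Or.inl (hZ3P1 hz))
  · have hP1K : P₁ ≤ K := fun p hp => (hK p).mpr (Or.inl hp)
    have hkK : k ∈ K := (hK k).mpr (Or.inr (by rw [inv_mul_cancel]; exact one_mem _))
    obtain ⟨j, hj⟩ := Subgroup.card_dvd_of_le hP1K
    have hKpos : 0 < Nat.card K := Nat.card_pos
    have hj1 : j ≠ 1 := by
      intro h
      rw [h, mul_one] at hj
      have h2 := Subgroup.eq_of_le_of_card_ge hP1K (le_of_eq hj)
      rw [h2] at hkP1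
      exact hkP1 hkK
    have hj0 : j ≠ 0 := by
      intro h
      rw [h, mul_zero] at hj
      omega
    have hj2 : 2 ≤ j := by omega
    rw [hj, hP1]
    calc 2 ^ 8 = 2 ^ 7 * 2 := by norm_num
      _ ≤ 2 ^ 7 * j := Nat.mul_le_mul_left _ hj2
  · intro w hw
    rcases (hK w).mp hw with h | h
    · exact hsqP1 w h
    · have e : w * w = (k * k) * (k⁻¹ * (k⁻¹ * w) * k * (k⁻¹ * w)⁻¹) * ((k⁻¹ * w) * (k⁻¹ * w)) := by
        group
      rw [e]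
      have hkk : k * k ∈ Z₂ := by rw [hkdef]; exact hsqx u₀ hu₀
      exact mul_mem (mul_mem hkk (hcommk _ h)) (hsqP1 _ h)

end Cfsg.Agent.Lib.Helper15.RUW
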